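import Mathlib
import Cfsg.Agent.Lib.Helper19.SPU.Defs

/-!
# Project SPU (S2316): package [LAGDEC]

Lagrangian normal form of `X ∈ 𝒜(J)` with `X² + X` nilpotent.
-/

set_option autoImplicit false

namespace Cfsg.Agent.Lib.Helper39.SPU

open Matrix Cfsg.Agent.Lib.Helper19.SPU

universe u

/-- [LAGDEC] Lagrangian normal form of `X ∈ 𝒜(J)` with `X² + X` nilpotent. -/
theorem pkgLagDec_of (hLR : PkgLagRank.{u}) : PkgLagDec.{u} := by
  intro F _ k X hX hnil
  classical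
  have hJsymp : IsSymp (Matrix.J (Fin k) F) := by
    refine ⟨Matrix.J_transpose _ _, ?_, ?_⟩
    · intro i
      rcases i with a | a <;> simp [Matrix.J]
    · exact (Matrix.isUnit_iff_isUnit_det _).2 (Matrix.isUnit_det_J _ _)
  have hrank := hLR F (Fin k ⊕ Fin k) (Matrix.J (Fin k) F) X hJsymp hX hnil
  have hr : (X ^ (Fintype.card (Fin k) + Fintype.card (Fin k))).rank = Fintype.card (Fin k) := by
    rw [Fintype.card_sum] at hrank
    omega
  obtain ⟨P, N, A, hN, hA, hXP⟩ := Cfsg.Agent.Lib.Helper40.fitting_exists X hr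
  obtain ⟨Pm, hPm⟩ : ∃ Pm : Matrix (Fin k ⊕ Fin k) (Fin k ⊕ Fin k) F, Pm = P.val := ⟨_, rfl⟩
  obtain ⟨D, hD⟩ : ∃ D : Matrix (Fin k ⊕ Fin k) (Fin k ⊕ Fin k) F,
      D = Matrix.fromBlocks N 0 0 A := ⟨_, rfl⟩
  rw [← hPm, ← hD] at hXP
  have hPu : IsUnit Pm := by rw [hPm]; exact P.isUnit
  -- `A + 1` is nilpotent
  have hsemi : (X * X + X) * Pm = Pm * (D * D + D) := by
    have h1 : X * X * Pm = Pm * (D * D) := by
      rw [mul_assoc, hXP, ← mul_assoc, hXP, mul_assoc]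
    rw [add_mul, mul_add, h1, hXP]
  have hsemi_pow : ∀ j : ℕ, (X * X + X) ^ j * Pm = Pm * (D * D + D) ^ j := by
    intro j
    induction j with
    | zero => simp
    | succ j ih => rw [pow_succ, mul_assoc, hsemi, ← mul_assoc, ih, mul_assoc, ← pow_succ]
  obtain ⟨j, hj⟩ := hnil
  have hDj : (D * D + D) ^ j = 0 := by
    have h := hsemi_pow j
    rw [hj, zero_mul] at h
    exact (hPu.mul_right_eq_zero).1 h.symm
  have hDD : D * D + D = Matrix.fromBlocks (N * N + N) 0 0 (A * A + A) := by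
    rw [hD, Matrix.fromBlocks_multiply, Matrix.fromBlocks_add]
    simp
  have hAA : (A * A + A) ^ j = 0 := by
    rw [hDD, Cfsg.Agent.Lib.Helper40.fromBlocks_diag_pow, ← Matrix.fromBlocks_zero,
      Matrix.fromBlocks_inj] at hDj
    exact hDj.2.2.2
  have hA1 : (A + 1) ^ j = 0 := by
    have hc : Commute A (A + 1) := (Commute.refl A).add_right (Commute.one_right A)
    have h : A * A + A = A * (A + 1) := by rw [mul_add, mul_one]
    rw [h, hc.mul_pow] at hAA
    exact ((hA.pow j).mul_right_eq_zero).1 hAA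
  -- the transformed form
  obtain ⟨K', hK'⟩ : ∃ K' : Matrix (Fin k ⊕ Fin k) (Fin k ⊕ Fin k) F,
      K' = Pmᵀ * Matrix.J (Fin k) F * Pm := ⟨_, rfl⟩
  have hX' : Xᵀ * Matrix.J (Fin k) F + Matrix.J (Fin k) F * X + Matrix.J (Fin k) F = 0 := hX
  have hAff : Dᵀ * K' + K' * D + K' = 0 := by
    have h1 : Dᵀ * K' = Pmᵀ * (Xᵀ * Matrix.J (Fin k) F) * Pm := by
      have h0 : Dᵀ * Pmᵀ = Pmᵀ * Xᵀ := by
        rw [← Matrix.transpose_mul, ← hXP, Matrix.transpose_mul]
      calc Dᵀ * K' = Dᵀ * Pmᵀ * Matrix.J (Fin k) F * Pm := by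
            rw [hK']; simp only [mul_assoc]
        _ = Pmᵀ * Xᵀ * Matrix.J (Fin k) F * Pm := by rw [h0]
        _ = Pmᵀ * (Xᵀ * Matrix.J (Fin k) F) * Pm := by simp only [mul_assoc]
    have h2 : K' * D = Pmᵀ * (Matrix.J (Fin k) F * X) * Pm := by
      calc K' * D = Pmᵀ * Matrix.J (Fin k) F * (Pm * D) := by
            rw [hK']; simp only [mul_assoc]
        _ = Pmᵀ * Matrix.J (Fin k) F * (X * Pm) := by rw [hXP]
        _ = Pmᵀ * (Matrix.J (Fin k) F * X) * Pm := by simp only [mul_assoc]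
    have h3 : Dᵀ * K' + K' * D + K' =
        Pmᵀ * (Xᵀ * Matrix.J (Fin k) F + Matrix.J (Fin k) F * X + Matrix.J (Fin k) F) * Pm := by
      rw [h1, h2, hK']
      simp only [mul_add, add_mul]
    rw [h3, hX']
    simp
  have hskew : K'ᵀ = -K' := by
    rw [hK', Matrix.transpose_mul, Matrix.transpose_mul, Matrix.transpose_transpose,
      Matrix.J_transpose]
    simp [mul_assoc]
  have hK'u : IsUnit K' := by
    rw [Matrix.isUnit_iff_isUnit_det, hK', Matrix.det_mul, Matrix.det_mul, Matrix.det_transpose]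
    have h1 : IsUnit Pm.det := (Matrix.isUnit_iff_isUnit_det Pm).1 hPu
    exact (h1.mul (Matrix.isUnit_det_J (Fin k) F)).mul h1
  obtain ⟨K11, K12, K21, K22, hKb⟩ : ∃ (K11 K12 K21 K22 : Matrix (Fin k) (Fin k) F),
      K' = Matrix.fromBlocks K11 K12 K21 K22 :=
    ⟨K'.toBlocks₁₁, K'.toBlocks₁₂, K'.toBlocks₂₁, K'.toBlocks₂₂,
      (Matrix.fromBlocks_toBlocks K').symm⟩
  rw [hKb, hD, Matrix.fromBlocks_transpose, Matrix.fromBlocks_multiply,
    Matrix.fromBlocks_multiply, Matrix.fromBlocks_add, Matrix.fromBlocks_add,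
    ← Matrix.fromBlocks_zero, Matrix.fromBlocks_inj] at hAff
  obtain ⟨e11, e12, e21, e22⟩ := hAff
  simp only [Matrix.transpose_zero, zero_mul, mul_zero, add_zero, zero_add] at e11 e12 e21 e22
  -- the diagonal blocks vanish
  have hK11 : K11 = 0 := by
    have hstep : K11 * (N + 1) = (-Nᵀ) * K11 := by
      rw [mul_add, mul_one, neg_mul, eq_neg_iff_add_eq_zero]
      calc K11 * N + K11 + Nᵀ * K11 = Nᵀ * K11 + K11 * N + K11 := by abel
        _ = 0 := e11
    have hpow : ∀ i : ℕ, K11 * (N + 1) ^ i = (-Nᵀ) ^ i * K11 := by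
      intro i
      induction i with
      | zero => simp
      | succ i ih =>
        rw [pow_succ, ← mul_assoc, ih, mul_assoc, hstep, ← mul_assoc, ← pow_succ]
    obtain ⟨i, hi⟩ := hN.neg
    have h0 : (-Nᵀ) ^ i = 0 := by
      rw [← Matrix.transpose_neg, ← Matrix.transpose_pow, hi, Matrix.transpose_zero]
    have h1 := hpow i
    rw [h0, zero_mul] at h1
    exact ((hN.isUnit_add_one.pow i).mul_left_eq_zero).1 h1
  have hK22 : K22 = 0 := by
    have hstep : (Aᵀ + 1) * K22 = K22 * (-A) := by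
      rw [add_mul, one_mul, mul_neg, eq_neg_iff_add_eq_zero]
      calc Aᵀ * K22 + K22 + K22 * A = Aᵀ * K22 + K22 * A + K22 := by abel
        _ = 0 := e22
    have hpow : ∀ i : ℕ, (Aᵀ + 1) ^ i * K22 = K22 * (-A) ^ i := by
      intro i
      induction i with
      | zero => simp
      | succ i ih =>
        rw [pow_succ, mul_assoc, hstep, ← mul_assoc, ih, mul_assoc, ← pow_succ]
    have h0 : (Aᵀ + 1) ^ j = 0 := by
      have h : Aᵀ + 1 = (A + 1)ᵀ := by rw [Matrix.transpose_add, Matrix.transpose_one]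
      rw [h, ← Matrix.transpose_pow, hA1, Matrix.transpose_zero]
    have h1 := hpow j
    rw [h0, zero_mul] at h1
    exact ((hA.neg.pow j).mul_left_eq_zero).1 h1.symm
  subst hK11 hK22
  -- `K21 = -K12ᵀ`
  have hC : K21 = -K12ᵀ := by
    rw [hKb, Matrix.fromBlocks_transpose, Matrix.fromBlocks_neg, Matrix.fromBlocks_inj] at hskew
    have h := hskew.2.2.1
    rw [h, neg_neg]
  -- `K12` is invertible
  obtain ⟨c, hBc⟩ : ∃ c : Matrix (Fin k) (Fin k) F, K12 * c = 1 := by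
    obtain ⟨w, hw⟩ := hK'u
    obtain ⟨W, hW⟩ : ∃ W : Matrix (Fin k ⊕ Fin k) (Fin k ⊕ Fin k) F, W = (w⁻¹).val := ⟨_, rfl⟩
    have h1 : K' * W = 1 := by
      rw [← hw, hW]; exact w.mul_inv
    rw [hKb, ← Matrix.fromBlocks_toBlocks W, Matrix.fromBlocks_multiply, ← Matrix.fromBlocks_one,
      Matrix.fromBlocks_inj] at h1
    refine ⟨W.toBlocks₂₁, ?_⟩
    simpa using h1.1
  have hcB : c * K12 = 1 := mul_eq_one_comm.1 hBc
  have hct : cᵀ * K12ᵀ = 1 := by
    rw [← Matrix.transpose_mul, hBc, Matrix.transpose_one]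
  have hkey : c * Nᵀ + A * c + c = 0 := by
    have h := congrArg (fun M => c * M * c) e12
    simp only [mul_add, add_mul, mul_zero, zero_mul] at h
    have h1 : c * (Nᵀ * K12) * c = c * Nᵀ := by
      rw [mul_assoc, mul_assoc, hBc, mul_one]
    have h2 : c * (K12 * A) * c = A * c := by
      rw [← mul_assoc, hcB, one_mul]
    have h3 : c * K12 * c = c := by rw [hcB, one_mul]
    rw [h1, h2, h3] at h
    exact h
  have hfin : A * (-c) = (-c) * (-1 - Nᵀ) := by
    have h : A * (-c) - (-c) * (-1 - Nᵀ) = -(c * Nᵀ + A * c + c) := by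
      simp only [mul_neg, neg_mul, mul_sub, mul_one, neg_neg, sub_neg_eq_add]
      abel
    rw [hkey, neg_zero] at h
    exact sub_eq_zero.1 h
  obtain ⟨Sm, hSm⟩ : ∃ Sm : Matrix (Fin k ⊕ Fin k) (Fin k ⊕ Fin k) F,
      Sm = Matrix.fromBlocks 1 0 0 (-c) := ⟨_, rfl⟩
  obtain ⟨Si, hSi⟩ : ∃ Si : Matrix (Fin k ⊕ Fin k) (Fin k ⊕ Fin k) F,
      Si = Matrix.fromBlocks 1 0 0 (-K12) := ⟨_, rfl⟩
  have hS1 : Sm * Si = 1 := by
    rw [hSm, hSi, Matrix.fromBlocks_multiply, ← Matrix.fromBlocks_one]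
    congr 1 <;> simp [hcB]
  have hS2 : Si * Sm = 1 := by
    rw [hSm, hSi, Matrix.fromBlocks_multiply, ← Matrix.fromBlocks_one]
    congr 1 <;> simp [hBc]
  obtain ⟨P', hP'⟩ : ∃ P' : GL (Fin k ⊕ Fin k) F, P'.val = Pm * Sm :=
    ⟨P * ⟨Sm, Si, hS1, hS2⟩, by rw [hPm]; rfl⟩
  refine ⟨P', N, ?_, hN, ?_⟩
  · unfold Isom
    rw [hP']
    have e1 : (Pm * Sm)ᵀ * Matrix.J (Fin k) F * (Pm * Sm) = Smᵀ * K' * Sm := by
      rw [Matrix.transpose_mul, hK']; simp only [mul_assoc]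
    rw [e1, hKb, hSm, Matrix.fromBlocks_transpose, Matrix.fromBlocks_multiply,
      Matrix.fromBlocks_multiply]
    unfold Matrix.J
    congr 1 <;> simp [hBc, hC, hct]
  · rw [hP', ← mul_assoc, hXP, hD, hSm, mul_assoc, mul_assoc, Matrix.fromBlocks_multiply,
      Matrix.fromBlocks_multiply]
    congr 2 <;> simp [hfin]

end Cfsg.Agent.Lib.Helper39.SPU
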